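import Mathlib.RingTheory.DiscreteValuationRing.Basic
import Mathlib.LinearAlgebra.FreeModule.PID
import Mathlib.RingTheory.Artinian.Module
import Mathlib.LinearAlgebra.Dimension.StrongRankCondition
import Mathlib.Algebra.Module.Torsion.Basic

/-!
# Lifting cycles from a truncated two term complex over a discrete valuation ring
-/

set_option autoImplicit false
set_option linter.style.haveILetI false
universe u

namespace GrothLib.TruncFreelead

variable {R : Type u} [CommRing R] [IsDomain R] [IsDiscreteValuationRing R] {ϖ : R}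

/-- The torsion of a module is killed by `ϖ ^ c`. -/
def TorsBdd (ϖ : R) (c : ℕ) (M : Type u) [AddCommGroup M] [Module R M] : Prop :=
  ∀ (k : ℕ) (x : M), ϖ ^ k • x = 0 → ϖ ^ c • x = 0

variable {C0 C1 E0 E1 : Type u} [AddCommGroup C0] [Module R C0] [AddCommGroup C1] [Module R C1]
  [AddCommGroup E0] [Module R E0] [AddCommGroup E1] [Module R E1]

theorem eq_zero_of_pow_smul_mul {M : Type u} [AddCommGroup M] [Module R M] {c : ℕ} (hM : TorsBdd ϖ c M)
    (k : ℕ) (y : M) (h : ϖ ^ k • ϖ ^ c • y = 0) : ϖ ^ c • y = 0 :=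
  hM (k + c) y (by rwa [pow_add, mul_smul])

/-- The cycles divisible by `ϖ ^ c`. -/
def cyc (ϖ : R) (c : ℕ) (D : C0 →ₗ[R] C1) : Submodule R C0 :=
  LinearMap.ker D ⊓ LinearMap.range (ϖ ^ c • (LinearMap.id : C0 →ₗ[R] C0))

theorem mem_cyc {c : ℕ} {D : C0 →ₗ[R] C1} {x : C0} :
    x ∈ cyc ϖ c D ↔ D x = 0 ∧ ∃ y, ϖ ^ c • y = x := by
  simp [cyc]

theorem free_cyc (hϖ : Irreducible ϖ) {c : ℕ} {D : C0 →ₗ[R] C1} (hC : TorsBdd ϖ c C0)
    [Module.Finite R (LinearMap.ker D)] : Module.Finite R (cyc ϖ c D) ∧ Module.Free R (cyc ϖ c D) := by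
  have hfin : Module.Finite R (cyc ϖ c D) :=
    Module.Finite.of_injective (Submodule.inclusion (inf_le_left : cyc ϖ c D ≤ LinearMap.ker D))
      (Submodule.inclusion_injective _)
  have htf : Module.IsTorsionFree R (cyc ϖ c D) := by
    refine Module.IsTorsionFree.of_smul_eq_zero fun a x h => ?_
    by_contra! hc'
    obtain ⟨ha, hx⟩ := hc'
    obtain ⟨k, v, rfl⟩ := IsDiscreteValuationRing.eq_unit_mul_pow_irreducible ha hϖ
    obtain ⟨y, hy⟩ := (mem_cyc.1 x.2).2
    have h1 : (v : R) • ϖ ^ k • (x : C0) = 0 := by rw [← mul_smul]; exact congrArg Subtype.val h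
    have h2 : ϖ ^ k • (x : C0) = 0 := (IsUnit.smul_eq_zero v.isUnit).1 h1
    rw [← hy] at h2
    exact hx (Subtype.ext (hy.symm.trans (eq_zero_of_pow_smul_mul hC k y h2)))
  exact ⟨hfin, Module.free_of_finite_type_torsion_free'⟩

/-- The multiples of `ϖ ^ m`. -/
abbrev pw (ϖ : R) (m : ℕ) (M : Type u) [AddCommGroup M] [Module R M] : Submodule R M :=
  LinearMap.range (ϖ ^ m • (LinearMap.id : M →ₗ[R] M))

theorem isArtinian_quot (hϖ : Irreducible ϖ) (m : ℕ) (M : Type u) [AddCommGroup M] [Module R M]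
    [Module.Finite R M] : IsArtinian R (M ⧸ pw ϖ m M) := by
  induction m generalizing M with
  | zero =>
    haveI : Subsingleton (M ⧸ pw ϖ 0 M) := by
      rw [Submodule.Quotient.subsingleton_iff, LinearMap.range_eq_top]
      exact fun x => ⟨x, by simp⟩
    infer_instance
  | succ m ih =>
    have hle : pw ϖ (m + 1) M ≤ pw ϖ m M := by
      rintro _ ⟨y, rfl⟩
      exact ⟨ϖ • y, by
        simp only [LinearMap.smul_apply, LinearMap.id_apply, smul_smul, pow_succ]⟩
    let N := M ⧸ pw ϖ (m + 1) M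
    let S : Submodule R N := (pw ϖ m M).map (pw ϖ (m + 1) M).mkQ
    haveI : IsArtinian R (N ⧸ S) := by
      haveI := ih M
      exact (Submodule.quotientQuotientEquivQuotient _ _ hle).symm.isArtinian_iff.1 inferInstance
    haveI : IsArtinian R S := by
      have hk : ∀ a ∈ Ideal.span ({ϖ} : Set R), ∀ s : S, a • s = 0 := by
        intro a ha s
        obtain ⟨b, rfl⟩ := Ideal.mem_span_singleton.1 ha
        obtain ⟨_, ⟨⟨y, rfl⟩, hys⟩⟩ := s.2
        refine Subtype.ext ?_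
        rw [Submodule.coe_smul, ← hys, ← map_smul]
        refine (Submodule.Quotient.mk_eq_zero _).2 ⟨b • y, ?_⟩
        simp only [LinearMap.smul_apply, LinearMap.id_apply, smul_smul]
        congr 1
        ring
      letI : Module (R ⧸ Ideal.span ({ϖ} : Set R)) S :=
        Module.IsTorsionBySet.module (fun s a => hk a.1 a.2 s)
      haveI : IsScalarTower R (R ⧸ Ideal.span ({ϖ} : Set R)) S :=
        IsScalarTower.of_algebraMap_smul fun _ _ => rfl
      haveI : Module.Finite (R ⧸ Ideal.span ({ϖ} : Set R)) S := Module.Finite.of_restrictScalars_finite R _ _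
      haveI : (Ideal.span ({ϖ} : Set R)).IsMaximal := by
        rw [← hϖ.maximalIdeal_eq]
        exact IsLocalRing.maximalIdeal.isMaximal R
      letI := Ideal.Quotient.field (Ideal.span ({ϖ} : Set R))
      haveI : IsArtinian (R ⧸ Ideal.span ({ϖ} : Set R)) S := inferInstance
      exact isArtinian_of_surjective_algebraMap (R := R ⧸ Ideal.span ({ϖ} : Set R)) (S := R) Ideal.Quotient.mk_surjective
    exact (isArtinian_iff_submodule_quotient S).2 ⟨inferInstance, inferInstance⟩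

/-- A map between free quotients that is injective is surjective when the ranks allow it. -/
theorem surjective_of_injective_quot (hϖ : Irreducible ϖ) (m : ℕ) {K P : Type u} [AddCommGroup K] [Module R K]
    [AddCommGroup P] [Module R P] [Module.Finite R K] [Module.Free R K] [Module.Finite R P] [Module.Free R P]
    (hr : Module.finrank R P ≤ Module.finrank R K) (Φ : (K ⧸ pw ϖ m K) →ₗ[R] (P ⧸ pw ϖ m P))
    (hΦ : Function.Injective Φ) : Function.Surjective Φ := by
  haveI := isArtinian_quot hϖ m P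
  let bP := Module.finBasis R P
  let bK := Module.finBasis R K
  let i : P →ₗ[R] K := bP.constr R fun a => bK (Fin.castLE hr a)
  let p : K →ₗ[R] P := bK.constr R fun b => if h : (b : ℕ) < Module.finrank R P then bP ⟨b, h⟩ else 0
  have hpi : ∀ x, p (i x) = x := by
    refine LinearMap.congr_fun (f := p.comp i) (g := LinearMap.id) (bP.ext fun a => ?_)
    simp only [i, p, LinearMap.comp_apply, Module.Basis.constr_basis, LinearMap.id_apply]
    exact dif_pos a.2
  let ib : (P ⧸ pw ϖ m P) →ₗ[R] (K ⧸ pw ϖ m K) := Submodule.mapQ _ _ i (by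
    rintro _ ⟨y, rfl⟩
    exact ⟨i y, by simp⟩)
  let pb : (K ⧸ pw ϖ m K) →ₗ[R] (P ⧸ pw ϖ m P) := Submodule.mapQ _ _ p (by
    rintro _ ⟨y, rfl⟩
    exact ⟨p y, by simp⟩)
  have hib : Function.Injective ib := fun x y h => by
    have key : ∀ z, pb (ib z) = z := fun z => by
      obtain ⟨z, rfl⟩ := Submodule.Quotient.mk_surjective _ z
      simp [ib, pb, hpi]
    rw [← key x, h, key y]
  intro x
  obtain ⟨z, hz⟩ := IsArtinian.surjective_of_injective_endomorphism (Φ.comp ib) (hΦ.comp hib) x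
  exact ⟨ib z, hz⟩

/-- **Lifting of cycles.** -/
theorem exists_cycle_lift (hϖ : Irreducible ϖ) (D : C0 →ₗ[R] C1) (D' : E0 →ₗ[R] E1) {r : ℕ}
    (θ : (Fin r → C0) →ₗ[R] E0) (θ₁ : (Fin r → C1) →ₗ[R] E1) {c c₀ n : ℕ} (hn : c + (c + 1) + c₀ ≤ n)
    (hC0 : TorsBdd ϖ c C0) (hC1 : TorsBdd ϖ c C1) (hE0 : TorsBdd ϖ c E0) (hE1 : TorsBdd ϖ c E1)
    [Module.Finite R (LinearMap.ker D)] [Module.Finite R (LinearMap.ker D')]
    (hgood : ∀ (k : ℕ) (b : C0) (y : C1), c₀ ≤ k → D b = ϖ ^ k • y → ∃ b', D b = D (ϖ ^ (k - c₀) • b'))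
    (hsurj : ∀ x, ∃ a, x - θ a ∈ pw ϖ n E0)
    (hinj : ∀ a, θ a ∈ pw ϖ n E0 → ∀ k, a k ∈ pw ϖ n C0)
    (hinj₁ : ∀ a, θ₁ a ∈ pw ϖ n E1 → ∀ k, a k ∈ pw ϖ n C1)
    (hcomp : ∀ a, D' (θ a) - θ₁ (fun k => D (a k)) ∈ pw ϖ n E1)
    (β : (Fin r → cyc ϖ c D) →ₗ[R] cyc ϖ c D') (hβ : Function.Injective β)
    (u : C0) (hu : D u = 0) (k : Fin r) :
    ∃ s : E0, D' s = 0 ∧ s - θ (Pi.single k u) ∈ pw ϖ 1 E0 := by
  classical
  obtain ⟨_, _⟩ := free_cyc (D := D) hϖ hC0
  obtain ⟨_, _⟩ := free_cyc (D := D') hϖ hE0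
  set m := c + 1 with hm
  set j := c + m with hj
  let K := cyc ϖ c D'
  let P := Fin r → cyc ϖ c D
  let val : P →ₗ[R] (Fin r → C0) := LinearMap.pi fun l => (cyc ϖ c D).subtype.comp (LinearMap.proj l)
  -- every divisible cycle of `E` comes from divisible cycles of `C` modulo `ϖ ^ j`
  have hex : ∀ x : K, ∃ a : P, (x : E0) - θ (val a) ∈ pw ϖ j E0 := by
    intro x
    obtain ⟨hx, y, hy⟩ := mem_cyc.1 x.2
    obtain ⟨b, w, hw⟩ := hsurj y
    simp only [LinearMap.smul_apply, LinearMap.id_apply] at hw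
    have h1 : θ₁ (fun l => D (ϖ ^ c • b l)) ∈ pw ϖ n E1 := by
      have h2 : (x : E0) = θ (ϖ ^ c • b) + ϖ ^ n • ϖ ^ c • w := by
        rw [← hy, map_smul, smul_comm (ϖ ^ n), ← smul_add, hw]
        congr 1
        abel
      have h3 : D' (θ (ϖ ^ c • b)) ∈ pw ϖ n E1 := ⟨-(D' (ϖ ^ c • w)), by
        have h4 := congrArg D' h2
        rw [hx, map_add, map_smul D' (ϖ ^ n)] at h4
        simp only [LinearMap.smul_apply, LinearMap.id_apply, smul_neg]
        exact (eq_neg_of_add_eq_zero_left h4.symm).symm⟩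
      simpa using Submodule.sub_mem _ h3 (hcomp (ϖ ^ c • b))
    choose z hz using hinj₁ _ h1
    simp only [LinearMap.smul_apply, LinearMap.id_apply] at hz
    choose b' hb' using fun l => hgood n (ϖ ^ c • b l) (z l) (by omega) (hz l).symm
    have hjn : j ≤ n - c₀ := by omega
    refine ⟨fun l => ⟨ϖ ^ c • b l - ϖ ^ (n - c₀) • b' l, mem_cyc.2 ⟨?_, ?_⟩⟩, ?_⟩
    · rw [map_sub, hb' l, sub_self]
    · exact ⟨b l - ϖ ^ (n - c₀ - c) • b' l, by
        rw [smul_sub, smul_smul, ← pow_add, Nat.add_sub_cancel' (by omega : c ≤ n - c₀)]⟩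
    · refine ⟨ϖ ^ (n - j) • ϖ ^ c • w + ϖ ^ (n - c₀ - j) • θ b', ?_⟩
      simp only [LinearMap.smul_apply, LinearMap.id_apply]
      show ϖ ^ j • _ = (x : E0) - θ (fun l => ϖ ^ c • b l - ϖ ^ (n - c₀) • b' l)
      rw [show (fun l => ϖ ^ c • b l - ϖ ^ (n - c₀) • b' l) = ϖ ^ c • b - ϖ ^ (n - c₀) • b' from rfl,
        map_sub, map_smul, map_smul, ← hy, smul_add, smul_smul (ϖ ^ j), smul_smul (ϖ ^ j), ← pow_add,
        ← pow_add, Nat.add_sub_cancel' (by omega : j ≤ n), Nat.add_sub_cancel' hjn, smul_comm (ϖ ^ n), hw,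
        smul_sub]
      abel
  have hpwmono : ∀ {a : P}, θ (val a) ∈ pw ϖ j E0 → a ∈ pw ϖ m P := by
    rintro a ⟨w, hw⟩
    simp only [LinearMap.smul_apply, LinearMap.id_apply] at hw
    have h1 := hinj (ϖ ^ (n - j) • val a) ⟨w, by
      simp only [LinearMap.smul_apply, LinearMap.id_apply]
      rw [map_smul, ← hw, smul_smul, ← pow_add, Nat.sub_add_cancel (by omega : j ≤ n)]⟩
    choose b hb using h1
    simp only [LinearMap.smul_apply, LinearMap.id_apply, Pi.smul_apply] at hb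
    choose y hy using fun l => (mem_cyc.1 (a l).2).2
    have hab : ∀ l, (a l : C0) = ϖ ^ m • ϖ ^ c • b l := fun l => by
      have h2 : ϖ ^ (n - j) • ϖ ^ c • (y l - ϖ ^ m • b l) = 0 := by
        rw [smul_sub, hy, smul_sub, smul_smul (ϖ ^ c), ← pow_add, smul_smul, ← pow_add,
          show n - j + (c + m) = n by omega, hb l]
        exact sub_self _
      have h3 := eq_zero_of_pow_smul_mul hC0 _ _ h2
      rw [smul_sub, hy, sub_eq_zero, smul_comm] at h3
      exact h3
    refine ⟨fun l => ⟨ϖ ^ c • b l, mem_cyc.2 ⟨?_, b l, rfl⟩⟩, funext fun l => Subtype.ext (hab l).symm⟩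
    have h4 := (mem_cyc.1 (a l).2).1
    rw [hab, map_smul, map_smul] at h4
    rw [map_smul]
    exact eq_zero_of_pow_smul_mul hC1 m _ h4
  choose Φ₀ hΦ₀ using hex
  have huniq : ∀ (x : K) (a : P), (x : E0) - θ (val a) ∈ pw ϖ j E0 → Φ₀ x - a ∈ pw ϖ m P := fun x a h => by
    refine hpwmono ?_
    rw [map_sub, map_sub]
    simpa using Submodule.sub_mem _ h (hΦ₀ x)
  let Φ : K →ₗ[R] (P ⧸ pw ϖ m P) :=
    { toFun := fun x => Submodule.Quotient.mk (Φ₀ x)
      map_add' := fun x y => (Submodule.Quotient.eq _).2 (huniq _ _ (by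
        rw [map_add, map_add, Submodule.coe_add, add_sub_add_comm]
        exact Submodule.add_mem _ (hΦ₀ x) (hΦ₀ y)))
      map_smul' := fun t x => (Submodule.Quotient.eq _).2 (huniq _ _ (by
        rw [RingHom.id_apply, map_smul, map_smul, Submodule.coe_smul, ← smul_sub]
        exact Submodule.smul_mem _ t (hΦ₀ x))) }
  have hker : LinearMap.ker Φ = pw ϖ m K := by
    apply le_antisymm
    · intro x hx
      obtain ⟨a, ha⟩ := (Submodule.Quotient.mk_eq_zero _).1 (LinearMap.mem_ker.1 hx)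
      simp only [LinearMap.smul_apply, LinearMap.id_apply] at ha
      obtain ⟨w, hw⟩ := hΦ₀ x
      simp only [LinearMap.smul_apply, LinearMap.id_apply] at hw
      choose y hy using fun l => (mem_cyc.1 (a l).2).2
      have hva : val a = ϖ ^ c • y := funext fun l => (hy l).symm
      have hx2 : (x : E0) = ϖ ^ m • ϖ ^ c • (w + θ y) := by
        rw [← ha, map_smul, map_smul, hva, map_smul, eq_sub_iff_add_eq] at hw
        rw [← hw, smul_add (ϖ ^ c), smul_add (ϖ ^ m), smul_smul (ϖ ^ m) (ϖ ^ c) w, ← pow_add,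
          show m + c = j by omega]
      refine ⟨⟨ϖ ^ c • (w + θ y), mem_cyc.2 ⟨?_, _, rfl⟩⟩, Subtype.ext hx2.symm⟩
      have h4 := (mem_cyc.1 x.2).1
      rw [hx2, map_smul, map_smul] at h4
      rw [map_smul]
      exact eq_zero_of_pow_smul_mul hE1 m _ h4
    · rintro _ ⟨x, rfl⟩
      refine LinearMap.mem_ker.2 ?_
      rw [LinearMap.smul_apply, LinearMap.id_apply, map_smul]
      exact (Submodule.Quotient.mk_eq_zero _).2 ⟨Φ₀ x, by simp⟩
  let Φb : (K ⧸ pw ϖ m K) →ₗ[R] (P ⧸ pw ϖ m P) := Submodule.liftQ _ Φ hker.ge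
  have hΦb : Function.Injective Φb := LinearMap.ker_eq_bot.1 (Submodule.ker_liftQ_eq_bot _ _ _ hker.le)
  have hS := surjective_of_injective_quot hϖ m (LinearMap.finrank_le_finrank_of_injective hβ) Φb hΦb
  let a₀ : P := Pi.single k ⟨ϖ ^ c • u, mem_cyc.2 ⟨by rw [map_smul, hu, smul_zero], u, rfl⟩⟩
  have hval : val a₀ = ϖ ^ c • Pi.single k u := by
    funext l
    show ((a₀ l : cyc ϖ c D) : C0) = ϖ ^ c • (Pi.single k u : Fin r → C0) l
    by_cases hl : l = k
    · subst hl; simp only [a₀, Pi.single_eq_same]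
    · simp only [a₀, Pi.single_eq_of_ne hl, smul_zero, Submodule.coe_zero]
  obtain ⟨x', hx'⟩ := hS (Submodule.Quotient.mk a₀)
  obtain ⟨x, rfl⟩ := Submodule.Quotient.mk_surjective _ x'
  obtain ⟨q, hq⟩ := (Submodule.Quotient.eq _).1 (show Submodule.Quotient.mk (Φ₀ x) = Submodule.Quotient.mk a₀ from hx')
  simp only [LinearMap.smul_apply, LinearMap.id_apply] at hq
  obtain ⟨w, hw⟩ := hΦ₀ x
  simp only [LinearMap.smul_apply, LinearMap.id_apply] at hw
  choose y hy using fun l => (mem_cyc.1 (q l).2).2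
  have hvq : val q = ϖ ^ c • y := funext fun l => (hy l).symm
  let t := θ (Pi.single k u)
  let s := t + ϖ ^ m • (w + θ y)
  have hcs : ϖ ^ c • s = x := by
    rw [eq_add_of_sub_eq hq.symm, map_add, map_add, map_smul val, hvq, hval] at hw
    simp only [map_smul] at hw
    rw [eq_sub_iff_add_eq] at hw
    rw [← hw]
    simp only [s, t, smul_add, smul_smul, ← pow_add, show c + m = j from rfl, Nat.add_comm m c]
    abel
  have hDt : D' t ∈ pw ϖ n E1 := by
    have h := hcomp (Pi.single k u)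
    have h0 : (fun l => D ((Pi.single k u : Fin r → C0) l)) = 0 := funext fun l => by
      by_cases hl : l = k
      · subst hl; simpa using hu
      · simp [hl]
    rwa [h0, map_zero, sub_zero] at h
  obtain ⟨z, hz⟩ := hDt
  simp only [LinearMap.smul_apply, LinearMap.id_apply] at hz
  have hs : D' s = ϖ ^ m • (ϖ ^ (n - m) • z + D' (w + θ y)) := by
    simp only [s, map_add, map_smul, smul_add, smul_smul, ← pow_add, Nat.add_sub_cancel' (by omega : m ≤ n), hz]
  refine ⟨s, ?_, ⟨ϖ ^ c • (w + θ y), ?_⟩⟩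
  · have h0 : ϖ ^ c • D' s = 0 := by rw [← map_smul, hcs]; exact (mem_cyc.1 x.2).1
    rw [hs, smul_comm] at h0
    have h1 := eq_zero_of_pow_smul_mul hE1 m _ h0
    rw [hs, hm, pow_succ', mul_smul, h1, smul_zero]
  · simp only [s, t, LinearMap.smul_apply, LinearMap.id_apply, add_sub_cancel_left, smul_smul, hm, pow_one,
      ← pow_succ']

end GrothLib.TruncFreelead
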