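import Groth.Agent.Lib.TruncFreelead.Sec
import Groth.Agent.Lib.FormalFn.Main
import Groth.Agent.Lib.DescLocus6.Frames

/-!
# Cochains of a bundle trivialised on fibres
-/

set_option autoImplicit false
set_option linter.style.haveILetI false
set_option maxHeartbeats 1000000
set_option backward.isDefEq.respectTransparency false
universe u

open CategoryTheory CategoryTheory.Limits AlgebraicGeometry Opposite TopologicalSpace
open GrothLib.BCCoh GrothLib.FinCov
open GrothLib.InvExt (mres)

noncomputable section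

namespace GrothLib.TruncFreelead

variable {A : Type u} [CommRing A] {X : Scheme.{u}} (f : X ⟶ Spec (CommRingCat.of A))

variable {ι : Type u} (U : ι → X.Opens)

/-- The two faces of a pair. -/
abbrev face (a : Fin 2 → ι) (k : Fin 2) : Fin 1 → ι := fun l => a (k.succAbove l)

theorem face_le (a : Fin 2 → ι) (k : Fin 2) : W U a ≤ W U (face a k) :=
  leOfHom (Cech.proj (D := Opens X.carrier) U a k)

theorem d_apply (G : X.Modules) (y : cxX f U G 0) (a : Fin 2 → ι) :
    cxd f U G 0 y a = resA f G (face_le U a 0) (y (face a 0)) - resA f G (face_le U a 1) (y (face a 1)) := by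
  refine (cxd_apply f U G 0 y a).trans ((Fin.sum_univ_two _).trans ?_)
  simp only [Fin.val_zero, Fin.val_one, pow_zero, pow_one, one_zsmul, neg_one_zsmul, sub_eq_add_neg]

/-- Gluing of cycles. -/
theorem exists_global (G : X.Modules) (hcov : iSup U = ⊤) (s : cxX f U G 0) (hs : cxd f U G 0 s = 0) :
    ∃ S : Γ(G, ⊤), ∀ a : Fin 1 → ι, mres G le_top S = (show Γ(G, W U a) from s a) := by
  let F : TopCat.Sheaf AddCommGrpCat.{u} X.carrier := ⟨G.presheaf, G.isSheaf⟩
  have hW : ∀ {n : ℕ} (a : Fin (n + 1) → ι), W U a = ⨅ k, U (a k) := fun a => Cech.obj_eq_iInf U a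
  have hcomp : ∀ (a : Fin 2 → ι),
      mres G (face_le U a 0) (show Γ(G, W U (face a 0)) from s (face a 0)) =
        mres G (face_le U a 1) (show Γ(G, W U (face a 1)) from s (face a 1)) := fun a =>
    sub_eq_zero.1 ((d_apply f U G s a).symm.trans (congrFun hs a))
  have hle : (⊤ : X.Opens) ≤ ⨆ a : Fin 1 → ι, W U a := by
    rw [← hcov]
    refine iSup_le fun i => le_trans ?_ (le_iSup (fun a : Fin 1 → ι => W U a) fun _ => i)
    rw [hW]
    exact le_iInf fun _ => le_rfl
  obtain ⟨S, hS, -⟩ := TopCat.Sheaf.existsUnique_gluing' F (fun a : Fin 1 → ι => W U a) ⊤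
    (fun a => homOfLE le_top) hle (fun a => (show Γ(G, W U a) from s a)) (by
      intro p q
      let a : Fin 2 → ι := ![q 0, p 0]
      have h0 : face a 0 = p := funext fun l => by obtain rfl := Subsingleton.elim l 0; rfl
      have h1 : face a 1 = q := funext fun l => by obtain rfl := Subsingleton.elim l 0; rfl
      have hpq : W U p ⊓ W U q ≤ W U a := by
        rw [hW a]
        refine le_iInf fun k => ?_
        fin_cases k
        · exact inf_le_right.trans ((hW q).le.trans (iInf_le _ 0))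
        · exact inf_le_left.trans ((hW p).le.trans (iInf_le _ 0))
      have key : ∀ (p' q' : Fin 1 → ι) (e0 : face a 0 = p') (e1 : face a 1 = q')
          (hp : W U p ⊓ W U q ≤ W U p') (hq : W U p ⊓ W U q ≤ W U q'),
          mres G hp (show Γ(G, W U p') from s p') = mres G hq (show Γ(G, W U q') from s q') := by
        rintro _ _ rfl rfl hp hq
        have := congrArg (mres G hpq) (hcomp a)
        rwa [InvExt.mres_mres, InvExt.mres_mres] at this
      exact key p q h0 h1 inf_le_left inf_le_right)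
  exact ⟨S, hS⟩

/-- Torsion of a bundle is bounded as the torsion of functions. -/
theorem torsBdd_secA {E : X.Modules} (hE : FlatMod.IsFinLocFree E) (ϖ : A) (c : ℕ) {V : X.Opens} (hV : IsAffineOpen V)
    (hO : ∀ (k : ℕ) (a : Γ(X, V)), psiS f V ϖ ^ k * a = 0 → psiS f V ϖ ^ c * a = 0)
    (k : ℕ) (s : secA f E V) (hs : ϖ ^ k • s = 0) : ϖ ^ c • s = 0 := by
  classical
  set v := psiS f V ϖ
  have hs' : v ^ k • (show Γ(E, V) from s) = 0 := by
    rw [← map_pow]; exact hs
  have key : ∀ x ∈ V, ∃ D : X.Opens, x ∈ D ∧ ∃ hD : D ≤ V, mres E hD (v ^ c • (show Γ(E, V) from s)) = 0 := by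
    intro x hx
    obtain ⟨U', n, e, hxU, he⟩ := exists_frame_nhd hE x
    obtain ⟨h, hle, hxh⟩ := hV.exists_basicOpen_le (V := U' ⊓ V) ⟨x, hxU, hx⟩ hx
    have hhV : X.basicOpen h ≤ V := X.basicOpen_le h
    let ρ := (X.presheaf.map (homOfLE hhV).op).hom
    refine ⟨X.basicOpen h, hxh, hhV, ?_⟩
    obtain ⟨q, hq⟩ := (he (X.basicOpen h) (hle.trans inf_le_left)).surjective (mres E hhV (show Γ(E, V) from s))
    have hk : ∀ i, ρ v ^ k * q i = 0 := by
      have h0 : mres E hhV (v ^ k • (show Γ(E, V) from s)) = 0 :=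
        (congrArg (E.presheaf.map (homOfLE hhV).op) hs').trans (map_zero _)
      rw [InvExt.mres_smul, ← hq, Finset.smul_sum] at h0
      intro i
      have := congrFun ((he (X.basicOpen h) (hle.trans inf_le_left)).injective (a₁ := fun i => ρ v ^ k * q i)
        (a₂ := 0) (by
          simp only [Pi.zero_apply, zero_smul, Finset.sum_const_zero, mul_smul]
          rw [← map_pow]
          exact h0)) i
      exact this
    letI := (ρ).toAlgebra
    haveI : IsLocalization.Away h Γ(X, X.basicOpen h) := hV.isLocalization_basicOpen h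
    have hc : ∀ i, ρ v ^ c * q i = 0 := fun i => by
      obtain ⟨⟨a, m, hm⟩, ha⟩ := IsLocalization.surj (Submonoid.powers h) (q i)
      change q i * ρ m = ρ a at ha
      have h1 : ρ (v ^ k * a) = ρ 0 := by rw [map_mul, map_pow, ← ha, ← mul_assoc, hk, zero_mul, map_zero]
      obtain ⟨m', hm'⟩ := IsLocalization.exists_of_eq (M := Submonoid.powers h) h1
      have h2 : v ^ c * ((m' : Γ(X, V)) * a) = 0 := hO k _ (by rw [mul_left_comm]; simpa using hm')
      have h3 : ρ v ^ c * q i * (ρ m' * ρ m) = 0 := by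
        have := congrArg ρ h2
        rw [map_mul, map_mul, map_pow, map_zero, ← ha] at this
        rw [← this]; ring
      refine (IsUnit.mul_left_eq_zero ?_).1 h3
      exact (IsLocalization.map_units _ m').mul (IsLocalization.map_units _ (⟨m, hm⟩ : Submonoid.powers h))
    rw [InvExt.mres_smul, ← hq, Finset.smul_sum]
    refine Finset.sum_eq_zero fun i _ => ?_
    rw [smul_smul]
    have : InvExt.fres X hhV (v ^ c) * q i = 0 := by
      show ρ (v ^ c) * q i = 0
      rw [map_pow]; exact hc i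
    rw [this, zero_smul]
  choose D hxD hD hDz using key
  have : v ^ c • (show Γ(E, V) from s) = 0 := by
    let F : TopCat.Sheaf AddCommGrpCat.{u} X.carrier := ⟨E.presheaf, E.isSheaf⟩
    refine F.eq_of_locally_eq' (fun p : V => D p.1 p.2) V (fun p => homOfLE (hD p.1 p.2)) ?_ _ _ fun p => ?_
    · intro x hx; exact Opens.mem_iSup.2 ⟨⟨x, hx⟩, hxD x hx⟩
    · exact (hDz p.1 p.2).trans (map_zero _).symm
  rw [← map_pow] at this
  exact this

theorem torsBdd_cxX {E : X.Modules} (hE : FlatMod.IsFinLocFree E) (ϖ : A) (c : ℕ) (n : ℕ)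
    (haff : ∀ a : Fin (n + 1) → ι, IsAffineOpen (W U a))
    (hO : ∀ (a : Fin (n + 1) → ι) (k : ℕ) (x : Γ(X, W U a)), psiS f (W U a) ϖ ^ k * x = 0 → psiS f (W U a) ϖ ^ c * x = 0) :
    ∀ (k : ℕ) (y : cxX f U E n), ϖ ^ k • y = 0 → ϖ ^ c • y = 0 :=
  fun k y hy => funext fun a => torsBdd_secA f hE ϖ c (haff a) (hO a) k (y a) (congrFun hy a)

variable {r : ℕ} (E : X.Modules) (t : Fin r → cxX f U E 0)

/-- Combinations of the cochains `t`. -/
def th0 : (Fin r → cxX f U (Coh.structureModule X) 0) →ₗ[A] cxX f U E 0 where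
  toFun c a := (show Γ(E, W U a) from ∑ k, (show Γ(X, W U a) from c k a) • (show Γ(E, W U a) from t k a))
  map_add' c c' := funext fun a => by
    show (∑ k, _ : Γ(E, W U a)) = (∑ k, _ : Γ(E, W U a)) + (∑ k, _ : Γ(E, W U a))
    rw [← Finset.sum_add_distrib]
    exact Finset.sum_congr rfl fun k _ => add_smul _ _ _
  map_smul' x c := funext fun a => by
    show (∑ k, _ : Γ(E, W U a)) = psiS f (W U a) x • (∑ k, _ : Γ(E, W U a))
    rw [Finset.smul_sum]
    exact Finset.sum_congr rfl fun k _ => mul_smul _ _ _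

/-- The same on overlaps. -/
def th1 : (Fin r → cxX f U (Coh.structureModule X) 1) →ₗ[A] cxX f U E 1 where
  toFun c a := (show Γ(E, W U a) from ∑ k, (show Γ(X, W U a) from c k a) •
    mres E (face_le U a 0) (show Γ(E, W U (face a 0)) from t k (face a 0)))
  map_add' c c' := funext fun a => by
    show (∑ k, _ : Γ(E, W U a)) = (∑ k, _ : Γ(E, W U a)) + (∑ k, _ : Γ(E, W U a))
    rw [← Finset.sum_add_distrib]
    exact Finset.sum_congr rfl fun k _ => add_smul _ _ _
  map_smul' x c := funext fun a => by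
    show (∑ k, _ : Γ(E, W U a)) = psiS f (W U a) x • (∑ k, _ : Γ(E, W U a))
    rw [Finset.smul_sum]
    exact Finset.sum_congr rfl fun k _ => mul_smul _ _ _

theorem resA_eq {G : X.Modules} {V V' : X.Opens} (h : V' ≤ V) (x : secA f G V) :
    (show Γ(G, V') from resA f G h x) = mres G h (show Γ(G, V) from x) := rfl

theorem d_th0 (c : Fin r → cxX f U (Coh.structureModule X) 0) (a : Fin 2 → ι) :
    (show Γ(E, W U a) from cxd f U E 0 (th0 f U E t c) a) -
        (show Γ(E, W U a) from th1 f U E t (fun k => cxd f U (Coh.structureModule X) 0 (c k)) a) =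
      ∑ k, (X.presheaf.map (homOfLE (face_le U a 1)).op).hom (show Γ(X, W U (face a 1)) from c k (face a 1)) •
        (show Γ(E, W U a) from cxd f U E 0 (t k) a) := by
  have key : ∀ {V₀ V₁ T : X.Opens} (h₀ : T ≤ V₀) (h₁ : T ≤ V₁) (c₀ : Fin r → Γ(X, V₀)) (c₁ : Fin r → Γ(X, V₁))
      (t₀ : Fin r → Γ(E, V₀)) (t₁ : Fin r → Γ(E, V₁)),
      mres E h₀ (∑ k, c₀ k • t₀ k) - mres E h₁ (∑ k, c₁ k • t₁ k) -
        (∑ k, (InvExt.fres X h₀ (c₀ k) - InvExt.fres X h₁ (c₁ k)) • mres E h₀ (t₀ k)) =
      ∑ k, InvExt.fres X h₁ (c₁ k) • (mres E h₀ (t₀ k) - mres E h₁ (t₁ k)) := by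
    intro V₀ V₁ T h₀ h₁ c₀ c₁ t₀ t₁
    simp only [map_sum, InvExt.mres_smul, sub_smul, smul_sub, Finset.sum_sub_distrib]
    abel
  refine Eq.trans ?_ ((key (face_le U a 0) (face_le U a 1) (fun k => c k (face a 0)) (fun k => c k (face a 1))
    (fun k => t k (face a 0)) (fun k => t k (face a 1))).trans ?_)
  · refine congrArg₂ (fun p q : Γ(E, W U a) => p - q) (d_apply f U E _ a) ?_
    show (∑ k : Fin r, _) = _
    refine Finset.sum_congr rfl fun k _ => ?_
    exact congrArg (fun z : Γ(X, W U a) => z • mres E (face_le U a 0) (show Γ(E, W U (face a 0)) from t k (face a 0)))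
      (d_apply f U (Coh.structureModule X) (c k) a)
  · exact Finset.sum_congr rfl fun k _ => congrArg
      (fun z : Γ(E, W U a) => InvExt.fres X (face_le U a 1) (show Γ(X, W U (face a 1)) from c k (face a 1)) • z)
      (d_apply f U E (t k) a).symm

end GrothLib.TruncFreelead
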