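import Groth.Agent.Lib.TruncFreelead.Cochain
import Groth.Agent.Lib.FrameFib8.Basic
import Groth.Agent.Lib.FreeRetract9.Basic
import Groth.Prelude.Def_FlatMod2

/-!
# Bundles over a discrete valuation ring free on the generic fibre and on a thick closed fibre
-/

set_option autoImplicit false
set_option linter.style.haveILetI false
set_option maxHeartbeats 1000000
set_option backward.isDefEq.respectTransparency false
universe u

open CategoryTheory CategoryTheory.Limits AlgebraicGeometry Opposite TopologicalSpace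
open GrothLib.BCCoh GrothLib.FinCov
open GrothLib.InvExt (mres fres)

noncomputable section

namespace GrothLib.TruncFreelead

theorem mem_span_pow_smul_top_iff {A : Type u} [CommRing A] (ϖ : A) (n : ℕ) {M : Type u} [AddCommGroup M]
    [Module A M] (x : M) :
    x ∈ RingHom.ker (Ideal.Quotient.mk (Ideal.span {ϖ ^ n})) • (⊤ : Submodule A M) ↔ ∃ y, ϖ ^ n • y = x := by
  rw [Ideal.mk_ker, Submodule.ideal_span_singleton_smul]
  simp [Submodule.mem_smul_pointwise_iff_exists]

theorem rank_eq_of_frames {Z : Scheme.{u}} {G : Z.Modules} {U V : Z.Opens} {m n : ℕ} {e : Fin m → Γ(G, U)}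
    {e' : Fin n → Γ(G, V)} (he : IsFrame G U e) (he' : IsFrame G V e') (y : Z) (hy : y ∈ U) (hy' : y ∈ V) :
    m = n := by
  haveI : Nontrivial Γ(Z, U ⊓ V) := by
    haveI : Nonempty ((U ⊓ V : Z.Opens) : Set Z) := ⟨⟨y, hy, hy'⟩⟩
    infer_instance
  have h1 := Module.finrank_eq_card_basis (he.basis (U ⊓ V) inf_le_left)
  have h2 := Module.finrank_eq_card_basis (he'.basis (U ⊓ V) inf_le_right)
  simp only [Fintype.card_fin] at h1 h2
  omega

theorem isFrame_empty {Z : Scheme.{u}} [IsEmpty Z] {G : Z.Modules} {U : Z.Opens} {m : ℕ} (e : Fin m → Γ(G, U)) :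
    IsFrame G U e :=
  Ref1.isFrame_of_stalk fun y _ => (IsEmpty.false y).elim

theorem exists_frame_of_iso_free {Z : Scheme.{u}} {G : Z.Modules} {r : ℕ} (e : G ≅ FlatMod.freeMod Z r) :
    ∃ τ : Fin r → Γ(G, ⊤), IsFrame G ⊤ τ :=
  ⟨_, FreePush6.isFrame_map e.inv (FreePush6.isFrame_freeSec Z r)⟩

theorem nonempty_iso_of_frame {Z : Scheme.{u}} {G : Z.Modules} {r : ℕ} {τ : Fin r → Γ(G, ⊤)}
    (h : IsFrame G ⊤ τ) : Nonempty (G ≅ FlatMod.freeMod Z r) := by
  let Φ := FreeRetract9.lift τ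
  suffices IsIso Φ from ⟨(asIso Φ).symm⟩
  rw [Scheme.Modules.Hom.isIso_iff_isIso_app]
  intro W
  rw [ConcreteCategory.isIso_iff_bijective]
  have h1 := FreePush6.isFrame_freeSec Z r W le_top
  refine (Function.Bijective.of_comp_iff _ h1).1 ?_
  have hcomp : (Φ.app W ∘ fun c : Fin r → Γ(Z, W) =>
      ∑ i, c i • (FlatMod.freeMod Z r).presheaf.map (homOfLE (le_top : W ≤ ⊤)).op (FreePush6.freeSec Z r i)) =
      fun c => ∑ i, c i • G.presheaf.map (homOfLE (le_top : W ≤ ⊤)).op (τ i) := by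
    funext c
    simp only [Function.comp, map_sum, Scheme.Modules.Hom.app_smul]
    refine Finset.sum_congr rfl fun i _ => congrArg (c i • ·) ?_
    rw [show Φ.app W ((FlatMod.freeMod Z r).presheaf.map (homOfLE (le_top : W ≤ ⊤)).op (FreePush6.freeSec Z r i)) =
      G.presheaf.map (homOfLE (le_top : W ≤ ⊤)).op (Φ.app ⊤ (FreePush6.freeSec Z r i)) from
      congr($(Φ.mapPresheaf.naturality (homOfLE (le_top : W ≤ ⊤)).op) (FreePush6.freeSec Z r i))]
    exact congrArg _ (FreeRetract9.lift_std τ i)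
  rw [hcomp]
  exact h W le_top

variable {R : Type u} [CommRing R] [IsDomain R] [IsDiscreteValuationRing R] {ϖ : R} {X : Scheme.{u}}
  (f : X ⟶ Spec (CommRingCat.of R))

theorem apply_eq_closedPoint [IsProper f] {x : X} (hx : IsClosed ({x} : Set X)) :
    f x = IsLocalRing.closedPoint R := by
  have h := f.isClosedMap _ hx
  rw [Set.image_singleton] at h
  exact PrimeSpectrum.ext (IsLocalRing.eq_maximalIdeal ((PrimeSpectrum.isClosed_singleton_iff_isMaximal _).1 h))

theorem exists_fibre_point (hϖ : Irreducible ϖ) [IsProper f] {x : X} (hx : IsClosed ({x} : Set X)) {n : ℕ}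
    (hn : 1 ≤ n) :
    ∃ y, pullback.fst f (Spec.map (CommRingCat.ofHom (Ideal.Quotient.mk (Ideal.span {ϖ ^ n})))) y = x := by
  have hne : Ideal.span {ϖ ^ n} ≠ ⊤ := by
    rw [Ne, Ideal.span_singleton_eq_top, isUnit_pow_iff (by omega)]
    exact hϖ.not_isUnit
  haveI : Nontrivial (R ⧸ Ideal.span {ϖ ^ n}) := Ideal.Quotient.nontrivial_iff.2 hne
  obtain ⟨M, hM⟩ := Ideal.exists_maximal (R ⧸ Ideal.span {ϖ ^ n})
  have h : (M.comap (Ideal.Quotient.mk (Ideal.span {ϖ ^ n}))).IsMaximal :=
    Ideal.comap_isMaximal_of_surjective _ Ideal.Quotient.mk_surjective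
  have h' : x ∈ Set.range (pullback.fst f (Spec.map (CommRingCat.ofHom (Ideal.Quotient.mk (Ideal.span {ϖ ^ n}))))) := by
    rw [Scheme.Pullback.range_fst]
    refine ⟨⟨M, hM.isPrime⟩, ?_⟩
    rw [apply_eq_closedPoint f hx]
    exact PrimeSpectrum.ext (IsLocalRing.eq_maximalIdeal h)
  exact h'

theorem not_mem_basicOpen_psiS (hϖ : Irreducible ϖ) [IsProper f] {x : X} (hx : IsClosed ({x} : Set X))
    (V : X.Opens) : x ∉ X.basicOpen (psiS f V ϖ) := by
  intro h
  have h2 : x ∈ V ⊓ f ⁻¹ᵁ (Spec (CommRingCat.of R)).basicOpen ((Scheme.ΓSpecIso (CommRingCat.of R)).inv.hom ϖ) := by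
    rw [← Scheme.basicOpen_appLE]
    exact h
  have h3 : f x ∈ PrimeSpectrum.basicOpen ϖ := by
    have := h2.2
    rwa [basicOpen_eq_of_affine] at this
  rw [apply_eq_closedPoint f hx] at h3
  exact h3 ((IsLocalRing.mem_maximalIdeal ϖ).2 hϖ.not_isUnit)

theorem exists_closed_specializes (hc : CompactSpace X) (x : X) : ∃ x₀, IsClosed ({x₀} : Set X) ∧ x ⤳ x₀ := by
  obtain ⟨x₀, h₀, h₁⟩ := IsClosed.exists_closed_singleton (S := closure ({x} : Set X)) isClosed_closure
    ⟨x, subset_closure rfl⟩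
  exact ⟨x₀, h₁, specializes_iff_mem_closure.2 h₀⟩

/-- **A bundle free on the generic fibre and on a thick enough closed fibre is free.** -/
theorem exists_pow_free (hϖ : Irreducible ϖ) [IsProper f] :
    ∃ n : ℕ, ∀ (E : X.Modules), FlatMod.IsFinLocFree E →
      (∃ r : ℕ, Nonempty ((Scheme.Modules.pullback (pullback.fst f
        (Spec.map (CommRingCat.ofHom (algebraMap R (FractionRing R)))))).obj E ≅ FlatMod.freeMod _ r)) →
      (∃ r : ℕ, Nonempty ((Scheme.Modules.pullback (pullback.fst f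
        (Spec.map (CommRingCat.ofHom (Ideal.Quotient.mk (Ideal.span {ϖ ^ n})))))).obj E ≅ FlatMod.freeMod _ r)) →
      ∃ r : ℕ, Nonempty (E ≅ FlatMod.freeMod X r) := by
  classical
  letI : X.Over (Spec (CommRingCat.of R)) := ⟨f⟩
  haveI : IsProper (X ↘ Spec (CommRingCat.of R)) := ‹IsProper f›
  haveI := FormalFn.isLocallyNoetherian_of_proper (X := X) R
  obtain ⟨ι, hι, U, hcov, haff⟩ := FormalFn.exists_cover (X := X) R
  haveI := hι
  haveI : CompactSpace X := QuasiCompact.compactSpace_of_compactSpace f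
  have hWaff : ∀ {n : ℕ} (a : Fin (n + 1) → ι), IsAffineOpen (W U a) := fun a => isAffineOpen_W U haff a
  have hOcoh : Coh.IsCoh (Coh.structureModule X) :=
    Euler.isCoh_of_isFinLocFree fun x => ⟨⊤, 1, trivial, exists_iso_of_frame (isFrame_one X ⊤)⟩
  haveI := hOcoh.1
  obtain ⟨c, hc⟩ : ∃ c, ∀ (m : Fin 2) (a : Fin ((m : ℕ) + 1) → ι) (k : ℕ) (z : Γ(X, W U a)),
      psiS f (W U a) ϖ ^ k * z = 0 → psiS f (W U a) ϖ ^ c * z = 0 := by
    haveI : ∀ m : Fin 2, Fintype (Fin ((m : ℕ) + 1) → ι) := fun _ => Fintype.ofFinite _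
    choose N hN using fun (p : Σ m : Fin 2, Fin ((m : ℕ) + 1) → ι) =>
      FormalFn.exists_torsion_bound (Coh.structureModule X) hOcoh (hWaff p.2) (psiS f (W U p.2) ϖ)
    exact ⟨Finset.univ.sup N, fun m a k z hz => hN ⟨m, a⟩ _ (Finset.le_sup (Finset.mem_univ _)) k z hz⟩
  obtain ⟨c₀, hc₀⟩ : ∃ c₀ : ℕ, ∀ (k : ℕ) (b : cxX f U (Coh.structureModule X) 0)
      (y : cxX f U (Coh.structureModule X) 1), c₀ ≤ k → cxd f U (Coh.structureModule X) 0 b = ϖ ^ k • y →
      ∃ b', cxd f U (Coh.structureModule X) 0 b = cxd f U (Coh.structureModule X) 0 (ϖ ^ (k - c₀) • b') := by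
    obtain ⟨c₀, h₀⟩ := FormalFn.exists_range_d_le (U := U) (Ideal.span {ϖ}) hcov haff 0 (Coh.structureModule X) hOcoh
    have key : ∀ j, (ComplexShape.up ℕ).next 0 = j → ∀ k, c₀ ≤ k →
        ∀ (b : (cx f U (Coh.structureModule X)).X 0) (y : (cx f U (Coh.structureModule X)).X j),
          (cx f U (Coh.structureModule X)).d 0 j b = ϖ ^ k • y →
          ∃ b', (cx f U (Coh.structureModule X)).d 0 j b =
            (cx f U (Coh.structureModule X)).d 0 j (ϖ ^ (k - c₀) • b') := by
      rintro j rfl k hk b y hby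
      have hmem := h₀ k hk (Submodule.mem_inf.2 ⟨⟨b, hby⟩, by
        rw [Ideal.span_singleton_pow, Submodule.ideal_span_singleton_smul]
        exact (Submodule.mem_smul_pointwise_iff_exists _ _ _).2 ⟨y, trivial, rfl⟩⟩)
      obtain ⟨z, hz, hze⟩ := hmem
      rw [Ideal.span_singleton_pow, Submodule.ideal_span_singleton_smul] at hz
      obtain ⟨b', -, rfl⟩ := (Submodule.mem_smul_pointwise_iff_exists _ _ _).1 hz
      exact ⟨b', hby.trans hze.symm⟩
    refine ⟨c₀, fun k b y hk hby => ?_⟩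
    have := key 1 (CochainComplex.next ℕ 0) k hk b y (by rw [cx_d]; exact hby)
    rwa [cx_d] at this
  refine ⟨c + (c + 1) + c₀, fun E hE ⟨rK, ⟨eK⟩⟩ ⟨r, ⟨en⟩⟩ => ⟨r, ?_⟩⟩
  set n := c + (c + 1) + c₀ with hn
  haveI := (Euler.isCoh_of_isFinLocFree hE).1
  let gK := pullback.fst f (Spec.map (CommRingCat.ofHom (algebraMap R (FractionRing R))))
  let gn := pullback.fst f (Spec.map (CommRingCat.ofHom (Ideal.Quotient.mk (Ideal.span {ϖ ^ n}))))
  have HK := IsPullback.of_hasPullback f (Spec.map (CommRingCat.ofHom (algebraMap R (FractionRing R))))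
  have Hn := IsPullback.of_hasPullback f (Spec.map (CommRingCat.ofHom (Ideal.Quotient.mk (Ideal.span {ϖ ^ n}))))
  obtain ⟨τ, hτ⟩ := exists_frame_of_iso_free en
  obtain ⟨σ, hσ⟩ : ∃ σ : Fin r → Γ((Scheme.Modules.pullback gK).obj E, ⊤),
      IsFrame ((Scheme.Modules.pullback gK).obj E) ⊤ σ := by
    by_cases hY : IsEmpty ↥(pullback f (Spec.map (CommRingCat.ofHom (algebraMap R (FractionRing R)))))
    · exact ⟨0, isFrame_empty _⟩
    · obtain ⟨y⟩ := not_isEmpty_iff.1 hY
      obtain ⟨σ, hσ⟩ := exists_frame_of_iso_free eK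
      obtain ⟨x₀, hx₀, hsp⟩ := exists_closed_specializes inferInstance (gK y)
      obtain ⟨Wf, m, fr, hxW, hfr⟩ := exists_frame_nhd hE x₀
      have h1 : m = rK := rank_eq_of_frames (DescLocus6.isFrame_pullRes gK E hfr (V' := gK ⁻¹ᵁ Wf) le_rfl) hσ y
        (hsp.mem_open Wf.2 hxW) trivial
      obtain ⟨y', hy'⟩ := exists_fibre_point f hϖ hx₀ (n := n) (by omega)
      have h2 : m = r := rank_eq_of_frames (DescLocus6.isFrame_pullRes gn E hfr (V' := gn ⁻¹ᵁ Wf) le_rfl) hτ y'
        (show gn y' ∈ Wf from hy' ▸ hxW) trivial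
      obtain rfl : rK = r := h1.symm.trans h2
      exact ⟨σ, hσ⟩
  -- lifts of the two frames
  choose t ht using fun (k : Fin r) (a : Fin 1 → ι) =>
    pp_surjective gn Hn E (hWaff a) Ideal.Quotient.mk_surjective (mres _ le_top (τ k))
  have hbd : ∀ (k : Fin r), ∃ (w : R), w ≠ 0 ∧ ∃ b : cxX f U E 0, cxd f U E 0 b = 0 ∧
      (∃ y, ϖ ^ c • y = b) ∧
      ∀ a, pp gK E (W U a) (b a) =
        psiS (pullback.snd f _) (gK ⁻¹ᵁ W U a) (algebraMap R (FractionRing R) w) • mres _ le_top (σ k) := by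
    intro k
    choose s hs0 m hm using fun a : Fin 1 → ι =>
      (isBC_frac (isBC_bcHom (algebraMap R (FractionRing R)) f _ gK HK E (hWaff a) rfl)).1 (mres _ le_top (σ k))
    haveI : Fintype (Fin 1 → ι) := Fintype.ofFinite _
    let b₀ : cxX f U E 0 := fun a => (∏ a' ∈ Finset.univ.erase a, s a') • (show secA f E (W U a) from m a)
    have hb₀ : ∀ a, pp gK E (W U a) (b₀ a) = psiS (pullback.snd f _) (gK ⁻¹ᵁ W U a)
        (algebraMap R (FractionRing R) (∏ a', s a')) • mres _ le_top (σ k) := by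
      intro a
      refine ((bcHom (algebraMap R (FractionRing R)) f _ gK HK E (W U a) _ le_rfl).hom.map_smul
        (∏ a' ∈ Finset.univ.erase a, s a') (m a)).trans ?_
      rw [← Finset.prod_erase_mul _ _ (Finset.mem_univ a), map_mul, map_mul, mul_smul]
      exact congrArg (fun z : Γ((Scheme.Modules.pullback gK).obj E, gK ⁻¹ᵁ W U a) =>
        psiS (pullback.snd f _) (gK ⁻¹ᵁ W U a) (algebraMap R (FractionRing R) (∏ a' ∈ Finset.univ.erase a, s a')) • z) (hm a)
    have hd : ϖ ^ c • cxd f U E 0 b₀ = 0 := by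
      funext a
      show ϖ ^ c • cxd f U E 0 b₀ a = 0
      have h0 : pp gK E (W U a) (show Γ(E, W U a) from cxd f U E 0 b₀ a) = 0 := by
        rw [d_apply]
        refine (pp_sub gK E _ _ _).trans (sub_eq_zero.2 ?_)
        refine (pp_res gK E _ _).trans (Eq.trans ?_ (pp_res gK E _ _).symm)
        rw [hb₀, hb₀, InvExt.mres_smul, InvExt.mres_smul, InvExt.mres_mres, InvExt.mres_mres]
        congr 1
        exact (ConcreteCategory.congr_hom (Scheme.Hom.appLE_map (pullback.snd f _) le_top _) _).trans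
          (ConcreteCategory.congr_hom (Scheme.Hom.appLE_map (pullback.snd f _) le_top _) _).symm
      obtain ⟨s', hs', hz⟩ :=
        (isBC_frac (isBC_bcHom (algebraMap R (FractionRing R)) f _ gK HK E (hWaff a) rfl)).2 _ h0
      obtain ⟨e, v, rfl⟩ := IsDiscreteValuationRing.eq_unit_mul_pow_irreducible hs' hϖ
      rw [mul_smul] at hz
      exact torsBdd_secA f hE ϖ c (hWaff a) (hc 1 a) e _ ((IsUnit.smul_eq_zero v.isUnit).1 hz)
    refine ⟨ϖ ^ c * ∏ a', s a', mul_ne_zero (pow_ne_zero _ hϖ.ne_zero)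
      (Finset.prod_ne_zero_iff.2 fun a _ => hs0 a), ϖ ^ c • b₀, by rw [map_smul, hd], ⟨b₀, rfl⟩, fun a => ?_⟩
    refine ((bcHom (algebraMap R (FractionRing R)) f _ gK HK E (W U a) _ le_rfl).hom.map_smul
      (ϖ ^ c) (b₀ a)).trans ?_
    rw [map_mul, map_mul, mul_smul]
    exact congrArg (fun z : Γ((Scheme.Modules.pullback gK).obj E, gK ⁻¹ᵁ W U a) =>
      psiS (pullback.snd f _) (gK ⁻¹ᵁ W U a) (algebraMap R (FractionRing R) (ϖ ^ c)) • z) (hb₀ a)
  choose w hw b hbz hby hb using hbd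
  -- the hypotheses of the lifting lemma
  let D := (cxd f U (Coh.structureModule X) 0).hom
  let D' := (cxd f U E 0).hom
  have hfin : ∀ G : X.Modules, Coh.IsCoh G → Module.Finite R (LinearMap.ker (cxd f U G 0).hom) := by
    intro G hG
    obtain ⟨cl, hsur, hzero, -⟩ := FormalFn.exists_cl (A := R) U hcov haff 0
    have hinj : Function.Injective (cl G hG.1) := fun z z' h => by
      have h' : cl G hG.1 (z - z') = 0 := by rw [map_sub, h, sub_self]
      obtain ⟨q, hq⟩ := (hzero G hG.1 _).1 h'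
      have hprev : (ComplexShape.up ℕ).prev 0 = 0 := CochainComplex.prev_nat_zero
      have hd0 : ((cx (X ↘ Spec (CommRingCat.of R)) U G).sc 0).f = 0 :=
        (cx (X ↘ Spec (CommRingCat.of R)) U G).shape _ _ (by rw [hprev]; simp)
      rw [hd0] at hq
      exact sub_eq_zero.1 (Subtype.ext hq.symm)
    haveI := ProjCoh.moduleFinite_HH R G hG 0
    have hfg : Module.Finite R (LinearMap.ker ((cx f U G).sc 0).g.hom) :=
      Module.Finite.equiv (LinearEquiv.ofBijective (cl G hG.1) ⟨hinj, hsur G hG.1⟩).symm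
    have hg : ∀ j, (ComplexShape.up ℕ).next 0 = j → Module.Finite R (LinearMap.ker ((cx f U G).d 0 j).hom) := by
      rintro j rfl; exact hfg
    have := hg 1 (CochainComplex.next ℕ 0)
    rwa [cx_d] at this
  haveI := hfin _ hOcoh
  haveI := hfin _ (Euler.isCoh_of_isFinLocFree hE)
  have hOlf : FlatMod.IsFinLocFree (Coh.structureModule X) :=
    fun x => ⟨⊤, 1, trivial, exists_iso_of_frame (isFrame_one X ⊤)⟩
  have hC0 := torsBdd_cxX f U hOlf ϖ c 0 hWaff (hc 0)
  have hC1 := torsBdd_cxX f U hOlf ϖ c 1 hWaff (hc 1)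
  have hE0 := torsBdd_cxX f U hE ϖ c 0 hWaff (hc 0)
  have hE1 := torsBdd_cxX f U hE ϖ c 1 hWaff (hc 1)
  have hpw : ∀ {G : X.Modules} {m : ℕ} (y : cxX f U G m),
      (∀ a, y a ∈ RingHom.ker (Ideal.Quotient.mk (Ideal.span {ϖ ^ n})) • (⊤ : Submodule R (secA f G (W U a)))) →
      y ∈ pw ϖ n (cxX f U G m) := by
    intro G m y h
    choose z hz using fun a => (mem_span_pow_smul_top_iff ϖ n (y a)).1 (h a)
    exact ⟨z, funext hz⟩
  have hpw' : ∀ {G : X.Modules} {m : ℕ} {y : cxX f U G m}, y ∈ pw ϖ n (cxX f U G m) → ∀ a,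
      y a ∈ RingHom.ker (Ideal.Quotient.mk (Ideal.span {ϖ ^ n})) • (⊤ : Submodule R (secA f G (W U a))) := by
    rintro G m _ ⟨z, rfl⟩ a
    exact (mem_span_pow_smul_top_iff ϖ n _).2 ⟨z a, rfl⟩
  have ht' : ∀ (a : Fin 2 → ι) (k : Fin r),
      pp gn E (W U a) (mres E (face_le U a 0) (show Γ(E, W U (face a 0)) from t k (face a 0))) =
        mres _ le_top (τ k) := fun a k =>
    (pp_res gn E _ _).trans ((congrArg _ (ht k _)).trans (InvExt.mres_mres _ _ _ _))
  have hdt : ∀ (k : Fin r) (a : Fin 2 → ι), cxd f U E 0 (fun a => t k a) a ∈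
      RingHom.ker (Ideal.Quotient.mk (Ideal.span {ϖ ^ n})) • (⊤ : Submodule R (secA f E (W U a))) := by
    intro k a
    refine (pp_eq_zero_iff gn Hn E (hWaff a) Ideal.Quotient.mk_surjective _).1 ?_
    rw [d_apply]
    refine (pp_sub gn E _ _ _).trans (sub_eq_zero.2 ?_)
    refine (pp_res gn E _ _).trans (Eq.trans ?_ (pp_res gn E _ _).symm)
    rw [ht, ht, InvExt.mres_mres, InvExt.mres_mres]
  let β₀ := th0 f U E b
  have hβmem : ∀ q : Fin r → cyc ϖ c D, β₀ (fun k => (q k : cxX f U (Coh.structureModule X) 0)) ∈ cyc ϖ c D' := by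
    intro q
    refine mem_cyc.2 ⟨funext fun a => ?_, ?_⟩
    · have h := d_th0 f U E b (fun k => (q k : cxX f U (Coh.structureModule X) 0)) a
      have h0 : (fun k => cxd f U (Coh.structureModule X) 0 (q k : cxX f U (Coh.structureModule X) 0)) = 0 :=
        funext fun k => (mem_cyc.1 (q k).2).1
      rw [h0, map_zero] at h
      refine ((sub_zero _).symm.trans h).trans (Finset.sum_eq_zero fun k _ => ?_)
      rw [show (show Γ(E, W U a) from cxd f U E 0 (b k) a) = 0 from congrFun (hbz k) a, smul_zero]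
    · choose y hy using fun k => (mem_cyc.1 (q k).2).2
      exact ⟨β₀ y, by rw [← map_smul]; exact congrArg β₀ (funext hy)⟩
  let β : (Fin r → cyc ϖ c D) →ₗ[R] cyc ϖ c D' :=
    LinearMap.codRestrict _ (β₀.comp (LinearMap.pi fun k => (cyc ϖ c D).subtype.comp (LinearMap.proj k))) hβmem
  have hβ : Function.Injective β := by
    rw [injective_iff_map_eq_zero]
    intro q hq
    funext k
    obtain ⟨hqd, y, hy⟩ := mem_cyc.1 (q k).2
    refine Subtype.ext (funext fun a => ?_)
    have h0 : (∑ l, (show Γ(X, W U a) from (q l : cxX f U (Coh.structureModule X) 0) a) • (show Γ(E, W U a) from b l a)) = 0 :=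
      congrFun (congrArg Subtype.val hq) a
    have h1 := congrArg (pp gK E (W U a)) h0
    rw [pp_zero, pp_sum] at h1
    simp only [pp_smul, hb, smul_smul] at h1
    have h2 := congrFun ((hσ (gK ⁻¹ᵁ W U a) le_top).injective (a₂ := 0)
      (a₁ := fun l => gK.appLE (W U a) (gK ⁻¹ᵁ W U a) le_rfl (show Γ(X, W U a) from (q l : cxX f U (Coh.structureModule X) 0) a) *
        psiS (pullback.snd f _) (gK ⁻¹ᵁ W U a) (algebraMap R (FractionRing R) (w l)))
      (by simpa only [Pi.zero_apply, zero_smul, Finset.sum_const_zero] using h1)) k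
    have hu : IsUnit (psiS (pullback.snd f _) (gK ⁻¹ᵁ W U a) (algebraMap R (FractionRing R) (w k))) :=
      (IsUnit.mk0 _ ((map_ne_zero_iff _ (IsFractionRing.injective R (FractionRing R))).2 (hw k))).map _
    have h3 := (pp_one_eq_zero_iff gK (W U a) _).2 (hu.mul_left_eq_zero.1 h2)
    obtain ⟨s', hs', hz⟩ := (isBC_frac (isBC_bcHom (algebraMap R (FractionRing R)) f _ gK HK
      (Coh.structureModule X) (hWaff a) rfl)).2 _ h3
    obtain ⟨e, v, rfl⟩ := IsDiscreteValuationRing.eq_unit_mul_pow_irreducible hs' hϖ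
    rw [mul_smul] at hz
    have h4 := (IsUnit.smul_eq_zero v.isUnit).1 hz
    rw [show (q k : cxX f U (Coh.structureModule X) 0) a = ϖ ^ c • y a from (congrFun hy a).symm] at h4 ⊢
    exact torsBdd_secA f hOlf ϖ c (hWaff a) (hc 0 a) (e + c) (y a) (by rwa [pow_add, mul_smul])
  let one₀ : cxX f U (Coh.structureModule X) 0 := fun a => one X (W U a)
  have hone : cxd f U (Coh.structureModule X) 0 one₀ = 0 := funext fun a => by
    rw [d_apply]
    exact sub_eq_zero.2 ((map_one (X.presheaf.map _).hom).trans (map_one (X.presheaf.map _).hom).symm)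
  have hs := fun k => exists_cycle_lift hϖ D D' (θ := th0 f U E t) (θ₁ := th1 f U E t) (n := n) le_rfl
    hC0 hC1 hE0 hE1 hc₀
    (fun x => by
      choose q hq using fun a => exists_coord gn Hn E (hWaff a) hτ (fun k => ht k a) Ideal.Quotient.mk_surjective (x a)
      exact ⟨fun k a => q a k, hpw _ hq⟩)
    (fun q hq k => hpw _ fun a => coord_mem gn Hn E (hWaff a) hτ (fun k => ht k a) Ideal.Quotient.mk_surjective
      (fun k => q k a) (hpw' hq a) k)
    (fun q hq k => hpw _ fun a => coord_mem gn Hn E (hWaff a) hτ (fun k => ht' a k) Ideal.Quotient.mk_surjective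
      (fun k => q k a) (hpw' hq a) k)
    (fun q => hpw _ fun a => by
      choose z hz using fun k => (mem_span_pow_smul_top_iff ϖ n _).1 (hdt k a)
      refine (mem_span_pow_smul_top_iff ϖ n _).2 ⟨(show secA f E (W U a) from ∑ k,
        (X.presheaf.map (homOfLE (face_le U a 1)).op).hom (show Γ(X, W U (face a 1)) from q k (face a 1)) •
          (show Γ(E, W U a) from z k)), ?_⟩
      refine Eq.trans ?_ (d_th0 f U E t q a).symm
      show psiS f (W U a) (ϖ ^ n) • (∑ k, _ : Γ(E, W U a)) = _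
      rw [Finset.smul_sum]
      refine Finset.sum_congr rfl fun k _ => ?_
      rw [smul_comm]
      exact congrArg _ (hz k))
    β hβ one₀ hone k
  choose s hsd hst using hs
  choose S hS using fun k => exists_global f U E hcov (s k) (hsd k)
  refine nonempty_iso_of_frame (τ := S) (DescLocus6.isFrame_of_local fun x _ => ?_)
  obtain ⟨x₀, hx₀, hsp⟩ := exists_closed_specializes inferInstance x
  obtain ⟨Wf, m, fr, hxW, hfr⟩ := exists_frame_nhd hE x₀
  obtain ⟨y', hy'⟩ := exists_fibre_point f hϖ hx₀ (n := n) (by omega)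
  obtain rfl : m = r := rank_eq_of_frames (DescLocus6.isFrame_pullRes gn E hfr (V' := gn ⁻¹ᵁ Wf) le_rfl) hτ y'
    (show gn y' ∈ Wf from hy' ▸ hxW) trivial
  obtain ⟨i, hi⟩ : ∃ i, x₀ ∈ U i := Opens.mem_iSup.1 (hcov ▸ trivial)
  let a : Fin 1 → ι := fun _ => i
  have hxa : x₀ ∈ W U a := by
    rw [show W U a = ⨅ k, U (a k) from Cech.obj_eq_iInf U a]
    exact le_iInf (fun _ => le_rfl : ∀ k, U i ≤ U (a k)) hi
  let V := Wf ⊓ W U a
  let fV := hfr.basis V inf_le_left
  let C : Matrix (Fin m) (Fin m) Γ(X, V) := fun k j => fV.repr (mres E inf_le_right (t k a)) j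
  choose z hz using fun k => hst k
  let Q : Matrix (Fin m) (Fin m) Γ(X, V) := fun k j => fV.repr (mres E inf_le_right (z k a)) j
  have hC : ∀ k, mres E inf_le_right (t k a) = ∑ j, C k j • mres E inf_le_left (fr j) := fun k => by
    conv_lhs => rw [← fV.sum_repr (mres E inf_le_right (t k a))]
    exact Finset.sum_congr rfl fun j _ => by rw [IsFrame.basis_apply]
  have hQ : ∀ k, mres E inf_le_right (z k a) = ∑ j, Q k j • mres E inf_le_left (fr j) := fun k => by
    conv_lhs => rw [← fV.sum_repr (mres E inf_le_right (z k a))]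
    exact Finset.sum_congr rfl fun j _ => by rw [IsFrame.basis_apply]
  -- the determinant is a unit at the closed point
  have hdet : x₀ ∈ X.basicOpen C.det := by
    let g' := (gn.appLE V (gn ⁻¹ᵁ V) le_rfl).hom
    let G := (Scheme.Modules.pullback gn).obj E
    have hbτ := hτ.basis (gn ⁻¹ᵁ V) le_top
    let Dm : Matrix (Fin m) (Fin m) Γ(pullback f (Spec.map (CommRingCat.ofHom (Ideal.Quotient.mk (Ideal.span {ϖ ^ n})))), gn ⁻¹ᵁ V) :=
      fun j l => (hτ.basis (gn ⁻¹ᵁ V) le_top).repr (pp gn E V (mres E inf_le_left (fr j))) l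
    have hmul : C.map g' * Dm = 1 := by
      refine Matrix.ext fun k l => ?_
      have h1 : mres G le_top (τ k) = ∑ l, (C.map g' * Dm) k l • (hτ.basis (gn ⁻¹ᵁ V) le_top) l := by
        have h2 := congrArg (pp gn E V) (hC k)
        rw [pp_res gn E, ht, InvExt.mres_mres, pp_sum] at h2
        rw [h2]
        simp only [pp_smul, Matrix.mul_apply, Finset.sum_smul, Matrix.map_apply]
        rw [Finset.sum_comm]
        refine Finset.sum_congr rfl fun j _ => ?_
        simp only [mul_smul, ← Finset.smul_sum, Dm, Module.Basis.sum_repr]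
        rfl
      have h3 := congrArg (fun v => (hτ.basis (gn ⁻¹ᵁ V) le_top).repr v l) h1
      simp only [Module.Basis.repr_sum_self] at h3
      rw [← h3]
      have e : mres G le_top (τ k) = hτ.basis (gn ⁻¹ᵁ V) le_top k := (IsFrame.basis_apply hτ (gn ⁻¹ᵁ V) le_top k).symm
      rw [e, Module.Basis.repr_self, Matrix.one_apply, Finsupp.single_apply]
    have hu : IsUnit (g' C.det) := by
      rw [RingHom.map_det]
      exact IsUnit.of_mul_eq_one _ (by rw [RingHom.mapMatrix_apply, ← Matrix.det_mul, hmul, Matrix.det_one])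
    have h4 : y' ∈ (pullback f _).basicOpen (g' C.det) := by
      rw [Scheme.basicOpen_of_isUnit _ hu]
      show gn y' ∈ V
      rw [hy']; exact ⟨hxW, hxa⟩
    rw [Scheme.basicOpen_appLE] at h4
    have := h4.2
    exact hy' ▸ (show gn y' ∈ X.basicOpen C.det from this)
  let v := psiS f V ϖ
  have hdet' : x₀ ∈ X.basicOpen (C + v • Q).det := by
    obtain ⟨q, hq⟩ : v ∣ (C + v • Q).det - C.det := by
      rw [← Ideal.mem_span_singleton, ← Ideal.Quotient.eq_zero_iff_mem, map_sub, RingHom.map_det, RingHom.map_det,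
        sub_eq_zero]
      congr 1
      refine Matrix.ext fun p q => ?_
      simp
    have hxV : x₀ ∈ V := ⟨hxW, hxa⟩
    rw [Scheme.mem_basicOpen _ _ _ hxV] at hdet ⊢
    have hnv : ¬ IsUnit (X.presheaf.germ V x₀ hxV v) := fun h =>
      not_mem_basicOpen_psiS f hϖ hx₀ V ((Scheme.mem_basicOpen _ _ _ hxV).2 h)
    by_contra hne
    rw [sub_eq_iff_eq_add] at hq
    rw [hq, map_add, map_mul] at hne
    refine hdet.elim fun _ _ => ?_
    set A₀ := X.presheaf.germ V x₀ hxV v * X.presheaf.germ V x₀ hxV q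
    set B₀ := X.presheaf.germ V x₀ hxV C.det
    have hA : A₀ ∈ nonunits (X.presheaf.stalk x₀) := fun h => hnv (isUnit_of_mul_isUnit_left h)
    have hAB : A₀ + B₀ ∈ nonunits (X.presheaf.stalk x₀) := hne
    exact (show B₀ ∈ nonunits (X.presheaf.stalk x₀) by
      have := IsLocalRing.nonunits_add hAB (show -A₀ ∈ nonunits (X.presheaf.stalk x₀) from fun h => hA (by simpa using h.neg))
      simpa using this) hdet
  refine ⟨X.basicOpen (C + v • Q).det, le_top, hsp.mem_open (X.basicOpen _).2 hdet', ?_⟩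
  refine FrameFib8.isFrame_of_isUnit_det ((X.basicOpen_le _).trans inf_le_left) hfr
    ((C + v • Q).map (X.presheaf.map (homOfLE (X.basicOpen_le _)).op).hom) ?_ fun k => ?_
  · have := RingedSpace.isUnit_res_basicOpen _ (C + v • Q).det
    rwa [← RingHom.mapMatrix_apply, ← RingHom.map_det]
  · have hk : mres E inf_le_right (show Γ(E, W U a) from s k a) =
        ∑ j, (C + v • Q) k j • mres E inf_le_left (fr j) := by
      simp only [Matrix.add_apply, Matrix.smul_apply, smul_eq_mul, add_smul, Finset.sum_add_distrib, mul_smul,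
        ← Finset.smul_sum]
      rw [← hC, ← hQ]
      show mres E inf_le_right _ = mres E inf_le_right _ + psiS f V ϖ • mres E inf_le_right _
      rw [show psiS f V ϖ = fres X inf_le_right (psiS f (W U a) ϖ) from
        (ConcreteCategory.congr_hom (Scheme.Hom.appLE_map f le_top _) _).symm, ← InvExt.mres_smul, ← map_add]
      refine congrArg (mres E _) ?_
      refine Eq.trans (eq_add_of_sub_eq (congrFun (hz k).symm a)) ?_
      rw [add_comm]
      refine congrArg₂ (fun p q : Γ(E, W U a) => p + q) ?_ ?_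
      · show (∑ l : Fin m, _ : Γ(E, W U a)) = _
        rw [Finset.sum_eq_single k]
        · show (show Γ(X, W U a) from (Pi.single k one₀ : Fin m → cxX f U (Coh.structureModule X) 0) k a) • _ = _
          rw [Pi.single_eq_same]
          exact one_smul _ _
        · intro l _ hl
          show (show Γ(X, W U a) from (Pi.single k one₀ : Fin m → cxX f U (Coh.structureModule X) 0) l a) • _ = _
          rw [Pi.single_eq_of_ne hl]
          exact zero_smul _ _
        · simp
      · simp only [LinearMap.smul_apply, LinearMap.id_apply, pow_one]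
        rfl
    rw [← InvExt.mres_mres E (le_top : V ≤ ⊤) (X.basicOpen_le _), ← InvExt.mres_mres E (le_top : W U a ≤ ⊤)
      (inf_le_right : V ≤ W U a), hS, hk]
    refine (map_sum (E.presheaf.map (homOfLE (X.basicOpen_le _)).op).hom _ _).trans ?_
    refine Finset.sum_congr rfl fun j _ => ?_
    refine (InvExt.mres_smul E _ _ _).trans ?_
    exact congrArg _ (InvExt.mres_mres E _ _ _)

end GrothLib.TruncFreelead
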