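import Groth.Agent.Lib.BCCoh.BaseChange
import Groth.Agent.Lib.DescLocus6.Frames
import Groth.Agent.Lib.FreePush6.Main
import Groth.Agent.Lib.Euler.LocFree
import Groth.Agent.Lib.Euler.Coh
import Groth.Agent.Lib.TruncFreelead.Alg
import Mathlib.LinearAlgebra.TensorProduct.Quotient
import Mathlib.RingTheory.Localization.FractionRing

/-!
# Sections of a module and of its restriction to a fibre
-/

set_option autoImplicit false
set_option linter.style.haveILetI false
set_option maxHeartbeats 1000000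
set_option backward.isDefEq.respectTransparency false
universe u

open CategoryTheory CategoryTheory.Limits AlgebraicGeometry Opposite TopologicalSpace TensorProduct
open GrothLib.BCCoh GrothLib.FinCov
open GrothLib.InvExt (mres)

noncomputable section

namespace GrothLib.TruncFreelead

section Alg

variable {A B : Type u} [CommRing A] [CommRing B] {φ : A →+* B} {M : ModuleCat.{u} A} {N : ModuleCat.{u} B}
  {h : M ⟶ (ModuleCat.restrictScalars φ).obj N}

theorem isBC_quot (hh : IsBC φ h) (hφ : Function.Surjective φ) :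
    Function.Surjective (fun m => (h m : N)) ∧
      ∀ m : M, (h m : N) = 0 ↔ m ∈ RingHom.ker φ • (⊤ : Submodule A M) := by
  letI : Algebra A B := φ.toAlgebra
  letI : Module A N := Module.compHom N φ
  haveI : IsScalarTower A B N := IsScalarTower.of_algebraMap_smul fun _ _ => rfl
  have hb : IsBaseChange B (linOf φ h) := hh
  have he : ∀ m : M, hb.equiv ((1 : B) ⊗ₜ[A] m) = h m := fun m => (hb.equiv_tmul 1 m).trans (one_smul _ _)
  constructor
  · intro y
    obtain ⟨z, rfl⟩ := hb.equiv.surjective y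
    induction z using TensorProduct.induction_on with
    | zero => exact ⟨0, (map_zero h.hom).trans (map_zero _).symm⟩
    | add a b ha hb' =>
      obtain ⟨m, hm⟩ := ha
      obtain ⟨m', hm'⟩ := hb'
      exact ⟨m + m', (map_add h.hom m m').trans ((congrArg₂ (· + ·) hm hm').trans (map_add _ a b).symm)⟩
    | tmul b m =>
      obtain ⟨a, rfl⟩ := hφ b
      refine ⟨a • m, (he (a • m)).symm.trans (congrArg hb.equiv ?_)⟩
      rw [TensorProduct.tmul_smul, TensorProduct.smul_tmul', Algebra.smul_def, mul_one]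
      rfl
  · intro m
    refine (Eq.congr_left (he m).symm).trans ((LinearEquiv.map_eq_zero_iff hb.equiv).trans ?_)
    let e : B ≃ₗ[A] (A ⧸ RingHom.ker φ) :=
      ((Ideal.quotientKerAlgEquivOfSurjective (f := Algebra.ofId A B) hφ).toLinearEquiv).symm
    have h1 : (1 : B) ⊗ₜ[A] m = 0 ↔ ((1 : A ⧸ RingHom.ker φ) ⊗ₜ[A] m) = 0 := by
      rw [← LinearEquiv.map_eq_zero_iff (TensorProduct.congr e (LinearEquiv.refl A M)), TensorProduct.congr_tmul]
      have : e (1 : B) = 1 := map_one (Ideal.quotientKerAlgEquivOfSurjective (f := Algebra.ofId A B) hφ).symm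
      rw [this]
      rfl
    rw [h1, ← (TensorProduct.quotTensorEquivQuotSMul M (RingHom.ker φ)).map_eq_zero_iff]
    erw [TensorProduct.quotTensorEquivQuotSMul_mk_tmul, one_smul]
    exact Submodule.Quotient.mk_eq_zero _

theorem isBaseChange_linOf [i : Algebra A B] (hi : i = φ.toAlgebra) (hh : IsBC φ h) :
    letI : Module A N := Module.compHom N φ
    haveI : IsScalarTower A B N := IsScalarTower.of_algebraMap_smul fun _ _ => by subst hi; rfl
    IsBaseChange B (linOf φ h) := by
  subst hi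
  exact hh

theorem isBC_frac [IsDomain A] {K : Type u} [CommRing K] [i : Algebra A K] [IsLocalization (nonZeroDivisors A) K]
    {N : ModuleCat.{u} K}
    {h : M ⟶ (ModuleCat.restrictScalars (algebraMap A K)).obj N}
    (hh : IsBC (algebraMap A K) h) :
    (∀ y : N, ∃ s : A, s ≠ 0 ∧ ∃ m : M, (h m : N) = algebraMap A K s • y) ∧
      ∀ m : M, (h m : N) = 0 → ∃ s : A, s ≠ 0 ∧ s • m = 0 := by
  letI : Module A N := Module.compHom N (algebraMap A K)
  haveI : IsScalarTower A K N := IsScalarTower.of_algebraMap_smul fun _ _ => rfl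
  have hb : IsBaseChange K (linOf (algebraMap A K) h) := by
    exact isBaseChange_linOf (i := i) (Algebra.algebra_ext _ _ fun _ => rfl) hh
  haveI := (isLocalizedModule_iff_isBaseChange (nonZeroDivisors A) K
    (linOf (algebraMap A K) h)).2 hb
  constructor
  · intro y
    obtain ⟨⟨m, s⟩, hs⟩ := IsLocalizedModule.surj (nonZeroDivisors A) (linOf (algebraMap A K) h) y
    exact ⟨s, nonZeroDivisors.ne_zero s.2, m, hs.symm⟩
  · intro m hm
    obtain ⟨s, hs⟩ := (IsLocalizedModule.eq_zero_iff (nonZeroDivisors A)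
      (linOf (algebraMap A K) h)).1 hm
    exact ⟨s, nonZeroDivisors.ne_zero s.2, hs⟩

end Alg

variable {X Y : Scheme.{u}} (g : Y ⟶ X)

/-- Pull back of a section to the inverse image. -/
def pp (G : X.Modules) (V : X.Opens) (s : Γ(G, V)) : Γ((Scheme.Modules.pullback g).obj G, g ⁻¹ᵁ V) :=
  pullRes g G V (g ⁻¹ᵁ V) le_rfl s

theorem pp_add (G : X.Modules) (V : X.Opens) (s t : Γ(G, V)) : pp g G V (s + t) = pp g G V s + pp g G V t :=
  pullRes_add g G V _ le_rfl s t

theorem pp_zero (G : X.Modules) (V : X.Opens) : pp g G V 0 = 0 :=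
  add_eq_left.1 ((pp_add g G V 0 0).symm.trans (congrArg (pp g G V) (add_zero 0)))

theorem pp_sub (G : X.Modules) (V : X.Opens) (s t : Γ(G, V)) : pp g G V (s - t) = pp g G V s - pp g G V t := by
  rw [eq_sub_iff_add_eq, ← pp_add, sub_add_cancel]

theorem pp_smul (G : X.Modules) (V : X.Opens) (a : Γ(X, V)) (s : Γ(G, V)) :
    pp g G V (a • s) = g.appLE V (g ⁻¹ᵁ V) le_rfl a • pp g G V s :=
  pullRes_smul g G V _ le_rfl a s

theorem pp_sum (G : X.Modules) (V : X.Opens) {ι : Type*} (S : Finset ι) (s : ι → Γ(G, V)) :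
    pp g G V (∑ i ∈ S, s i) = ∑ i ∈ S, pp g G V (s i) :=
  map_sum (AddMonoidHom.mk' (pp g G V) (pp_add g G V)) s S

theorem pp_res (G : X.Modules) {V W : X.Opens} (h : W ≤ V) (s : Γ(G, V)) :
    pp g G W (mres G h s) = mres ((Scheme.Modules.pullback g).obj G) ((Opens.map g.base).map (homOfLE h)).le
      (pp g G V s) :=
  (pullRes_res g G h le_rfl le_rfl ((Opens.map g.base).map (homOfLE h)).le s).symm

theorem isFrame_one (Z : Scheme.{u}) (V : Z.Opens) :
    IsFrame (Coh.structureModule Z) V fun _ : Fin 1 => one Z V := by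
  intro W hW
  have h1 : (Coh.structureModule Z).presheaf.map (homOfLE hW).op (one Z V) = one Z W :=
    map_one (Z.presheaf.map (homOfLE hW).op).hom
  have h2 : (fun c : Fin 1 → Γ(Z, W) => ∑ i, c i • (Coh.structureModule Z).presheaf.map (homOfLE hW).op (one Z V)) =
      fun c => c 0 := funext fun c => by rw [Fin.sum_univ_one, h1, smul_one]
  rw [h2]
  exact (Equiv.funUnique (Fin 1) Γ(Z, W)).bijective

theorem pp_one_eq_zero_iff (V : X.Opens) (a : Γ(X, V)) :
    pp g (Coh.structureModule X) V (show Γ(Coh.structureModule X, V) from a) = 0 ↔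
      g.appLE V (g ⁻¹ᵁ V) le_rfl a = 0 := by
  have hf := DescLocus6.isFrame_pullRes g (Coh.structureModule X) (isFrame_one X V) (V' := g ⁻¹ᵁ V) le_rfl
  conv_lhs => rw [← smul_one V a, pp_smul]
  constructor
  · intro h
    have := (hf _ le_rfl).injective (a₁ := fun _ => g.appLE V (g ⁻¹ᵁ V) le_rfl a) (a₂ := 0) (by
      simp only [Fin.sum_univ_one, Pi.zero_apply, zero_smul]
      rw [show (homOfLE (le_refl (g ⁻¹ᵁ V))).op = 𝟙 (op (g ⁻¹ᵁ V)) from rfl, CategoryTheory.Functor.map_id]
      exact h)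
    exact congrFun this 0
  · intro h; rw [h, zero_smul]

section Fibre

variable {A B : Type u} [CommRing A] [CommRing B] {φ : A →+* B} {f : X ⟶ Spec (CommRingCat.of A)}
  {f' : Y ⟶ Spec (CommRingCat.of B)} (H : IsPullback g f' f (Spec.map (CommRingCat.ofHom φ)))

include H

theorem appLE_eq_zero_iff {V : X.Opens} (hV : IsAffineOpen V) (hφ : Function.Surjective φ)
    (a : secA f (Coh.structureModule X) V) :
    g.appLE V (g ⁻¹ᵁ V) le_rfl (show Γ(X, V) from a) = 0 ↔
      a ∈ RingHom.ker φ • (⊤ : Submodule A (secA f (Coh.structureModule X) V)) := by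
  rw [← pp_one_eq_zero_iff]
  exact (isBC_quot (isBC_bcHom φ f f' g H (Coh.structureModule X) hV rfl) hφ).2 a

variable (E : X.Modules) [E.IsQuasicoherent] {V : X.Opens} (hV : IsAffineOpen V)
include hV

theorem pp_surjective (hφ : Function.Surjective φ) : Function.Surjective (pp g E V) :=
  (isBC_quot (isBC_bcHom φ f f' g H E hV rfl) hφ).1

theorem pp_eq_zero_iff (hφ : Function.Surjective φ) (s : secA f E V) :
    pp g E V s = 0 ↔ s ∈ RingHom.ker φ • (⊤ : Submodule A (secA f E V)) :=
  (isBC_quot (isBC_bcHom φ f f' g H E hV rfl) hφ).2 s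

variable {r : ℕ} {τ : Fin r → Γ((Scheme.Modules.pullback g).obj E, ⊤)}
  (hτ : IsFrame ((Scheme.Modules.pullback g).obj E) ⊤ τ) {t : Fin r → Γ(E, V)}
  (ht : ∀ k, pp g E V (t k) = mres _ le_top (τ k))
include hτ ht

theorem exists_coord (hφ : Function.Surjective φ) (x : secA f E V) :
    ∃ a : Fin r → Γ(X, V),
      (x - (show secA f E V from ∑ k, a k • t k)) ∈ RingHom.ker φ • (⊤ : Submodule A (secA f E V)) := by
  obtain ⟨c, hc⟩ := (hτ (g ⁻¹ᵁ V) le_top).surjective (pp g E V x)
  have hsO : Function.Surjective fun a : Γ(X, V) => g.appLE V (g ⁻¹ᵁ V) le_rfl a := by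
    intro y
    have hf := DescLocus6.isFrame_pullRes g (Coh.structureModule X) (isFrame_one X V) (V' := g ⁻¹ᵁ V) le_rfl
    obtain ⟨a, ha⟩ := pp_surjective g H (Coh.structureModule X) hV hφ
      (y • pp g (Coh.structureModule X) V (one X V))
    refine ⟨a, ?_⟩
    rw [← smul_one V (show Γ(X, V) from a), pp_smul] at ha
    exact congrFun ((hf _ le_rfl).injective (a₁ := fun _ => g.appLE V (g ⁻¹ᵁ V) le_rfl a) (a₂ := fun _ => y) (by
      simp only [Fin.sum_univ_one]
      rw [show (homOfLE (le_refl (g ⁻¹ᵁ V))).op = 𝟙 (op (g ⁻¹ᵁ V)) from rfl, CategoryTheory.Functor.map_id]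
      exact ha)) 0
  choose a ha using fun k => hsO (c k)
  refine ⟨a, (pp_eq_zero_iff g H E hV hφ _).1 ?_⟩
  refine (pp_sub g E V _ _).trans (sub_eq_zero.2 ?_)
  rw [pp_sum, ← hc]
  refine Finset.sum_congr rfl fun k _ => ?_
  rw [pp_smul, ht]
  exact congrArg (· • mres _ le_top (τ k)) (ha k).symm

theorem coord_mem (hφ : Function.Surjective φ) (a : Fin r → Γ(X, V))
    (ha : (show secA f E V from ∑ k, a k • t k) ∈ RingHom.ker φ • (⊤ : Submodule A (secA f E V))) (k : Fin r) :
    (show secA f (Coh.structureModule X) V from a k) ∈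
      RingHom.ker φ • (⊤ : Submodule A (secA f (Coh.structureModule X) V)) := by
  refine (appLE_eq_zero_iff g H hV hφ _).1 ?_
  have h := (pp_eq_zero_iff g H E hV hφ _).2 ha
  rw [pp_sum] at h
  have := (hτ (g ⁻¹ᵁ V) le_top).injective (a₁ := fun k => g.appLE V (g ⁻¹ᵁ V) le_rfl (a k)) (a₂ := 0) (by
    simp only [Pi.zero_apply, zero_smul, Finset.sum_const_zero]
    rw [← h]
    refine Finset.sum_congr rfl fun k _ => ?_
    rw [pp_smul, ht]; first | done | rfl)
  exact congrFun this k

end Fibre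

end GrothLib.TruncFreelead
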